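import Cfsg.Agent.Lib.Walter.NoTrans.Generated
import Cfsg.Agent.Lib.Forms.DicksonCor
import Cfsg.Agent.S2602

/-!
# An odd transitive subgroup lies in the socle up to field automorphisms

`X` has a simple normal subgroup `T` with trivial centralizer holding all involutions, `T` has an
involution centralizer `C₂ × PSL(2, p^f)`, and an odd `Q` is transitive on the involutions. Then
`|Q : Q ∩ T|` divides `f`: every element of `QT` is congruent modulo `T` to an element centralizing
the involution, whose action on the component is a field automorphism.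
-/

set_option autoImplicit false
set_option linter.style.haveILetI false
set_option linter.unusedSectionVars false

namespace Cfsg.Agent.Walter.NoTrans

open Subgroup

universe u v

variable {X : Type u} [Group X] [Finite X] {T : Subgroup X} [hTn : T.Normal]
  {F : Type v} [Field F] [Fintype F]

local notation "PG" => Matrix.ProjectiveSpecialLinearGroup (Fin 2) F

/-- No odd element outside centralizes an involution centralizer of the socle. -/
theorem eq_one_of_centralizes [IsSimpleGroup ↥T] (h : SEAbelian.AbTwo X)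
    (hC : centralizer (T : Set X) = ⊥) (hodd : Odd (Fintype.card F)) (h5 : 5 < Fintype.card F)
    (H : JT.Setup ↥T PG) {y : X} (hy : Odd (orderOf y)) (hyC : ∀ c ∈ H.C, Commute y (c : X)) :
    y = 1 := by
  classical
  haveI := Fintype.ofFinite PG
  have hT := h.subgroup T
  have hab := sylow_comm_of_abTwo hT
  obtain ⟨r, hK, -⟩ := JT.Loc.exists_kfacts hodd (by omega) (H.sylow_comm hab)
  obtain ⟨e, f, he, hf, hc, hne⟩ := hK.exists_pair
  obtain ⟨S, -, hS⟩ := JT.Loc.exists_sylow H hK hab he hf hc hne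
  have htS : H.t ∈ (S : Subgroup ↥T) := JT.Loc.emb_t H hK ▸ hS _ 1 (Or.inl rfl)
  have hSC : (S : Subgroup ↥T) ≤ H.C := fun x hx =>
    mem_centralizer_singleton_iff.2 (hT _ S.2 x hx H.t htS).eq
  -- the centralizer of the Sylow subgroup is an elementary abelian 2-group
  have hexp : ∀ w : ↥T, (∀ σ ∈ (S : Subgroup ↥T), Commute w σ) → w * w = 1 := by
    intro w hw
    obtain ⟨⟨b, k⟩, rfl⟩ := JT.Loc.emb_surj H (hw _ htS)
    have hk : ∀ j ∈ ({1, e, f, e * f} : Set PG), Commute k j := fun j hj => by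
      have h1 : H.emb ((b, k) * (1, j)) = H.emb ((1, j) * (b, k)) := by
        rw [map_mul, map_mul]; exact (hw _ (hS 1 j hj)).eq
      exact congrArg Prod.snd (JT.Loc.emb_injective H h1)
    have hkk : k * k = 1 := by
      rcases hK.cent_four he hf hc hne (hk e (by simp)) (hk f (by simp)) with rfl | rfl | rfl | rfl
      · exact one_mul 1
      · exact JT.Loc.invol_mul_self he
      · exact JT.Loc.invol_mul_self hf
      · rw [hc.symm.mul_mul_mul_comm, JT.Loc.invol_mul_self he, JT.Loc.invol_mul_self hf, one_mul]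
    rw [← map_mul, Prod.mk_mul_mk, JT.Loc.z2_sq, hkk]
    exact map_one _
  set U : Subgroup ↥T := (centralizer ({y} : Set X)).subgroupOf T with hU
  have hmemU : ∀ {w : ↥T}, w ∈ U ↔ Commute (w : X) y := fun {w} => by
    rw [hU, mem_subgroupOf, mem_centralizer_singleton_iff]; rfl
  have hCU : H.C ≤ U := fun c hc' => hmemU.2 (hyC c hc').symm
  have hNU : normalizer ((S : Subgroup ↥T) : Set ↥T) ≤ U := by
    intro n hn
    set φ : MulAut ↥T := MulAut.conjNormal y with hφ
    have hfix : ∀ c ∈ H.C, φ c = c := fun c hc' => Subtype.ext (by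
      rw [hφ, MulAut.conjNormal_apply, (hyC c hc').eq, mul_inv_cancel_right])
    set w : ↥T := φ n * n⁻¹ with hw
    have hwS : ∀ σ ∈ (S : Subgroup ↥T), Commute w σ := fun σ hσ => by
      have h1 : n⁻¹ * σ * n ∈ (S : Subgroup ↥T) := by
        simpa using (mem_normalizer_iff''.1 hn σ).1 hσ
      have h2 : φ n⁻¹ * σ * φ n = n⁻¹ * σ * n := by
        conv_lhs => rw [← hfix σ (hSC hσ)]
        rw [← map_mul, ← map_mul, hfix _ (hSC h1)]
      rw [map_inv] at h2
      show w * σ = σ * w
      calc w * σ = φ n * (n⁻¹ * σ * n) * n⁻¹ := by rw [hw]; group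
        _ = φ n * ((φ n)⁻¹ * σ * φ n) * n⁻¹ := by rw [h2]
        _ = σ * w := by rw [hw]; group
    have hwC : w ∈ H.C := mem_centralizer_singleton_iff.2 (hwS _ htS).eq
    have hφn : φ n = w * n := by rw [hw, inv_mul_cancel_right]
    have hiter : ∀ i : ℕ, (φ ^ i) n = w ^ i * n := by
      intro i
      induction i with
      | zero => simp
      | succ i ih =>
        rw [pow_succ', MulAut.mul_apply, ih, map_mul, map_pow, hfix w hwC, hφn, ← mul_assoc, ← pow_succ]
    have hm := hiter (orderOf y)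
    rw [hφ, ← map_pow, pow_orderOf_eq_one, map_one, MulAut.one_apply, eq_comm, mul_eq_right] at hm
    have hw1 : w = 1 := by
      obtain ⟨i, hi⟩ := hy
      rwa [hi, pow_succ, pow_mul, pow_two, hexp w hwS, one_pow, one_mul] at hm
    rw [hw1, one_mul] at hφn
    refine hmemU.2 ?_
    have h1 := congrArg Subtype.val hφn
    rw [hφ, MulAut.conjNormal_apply, mul_inv_eq_iff_eq_mul] at h1
    exact h1.symm
  have htop := eq_top_of_contains hT hodd h5 H hK he hf hc hne S hS hCU hNU
  have : y ∈ centralizer (T : Set X) := mem_centralizer_iff.2 fun x hx =>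
    (hmemU.1 (htop ▸ mem_top (⟨x, hx⟩ : ↥T))).eq
  rwa [hC, mem_bot] at this

/-- The action on the component. -/
theorem exists_component_action [IsSimpleGroup ↥T] [IsSimpleGroup PG] (hnc : ∃ a b : PG, a * b ≠ b * a)
    (H : JT.Setup ↥T PG) :
    ∃ ρ : ↥(centralizer ({(H.t : X)} : Set X)) →* MulAut PG,
      ∀ (n : ↥(centralizer ({(H.t : X)} : Set X))) (k : PG),
        MulAut.conjNormal (n : X) (H.embK k) = H.embK (ρ n k) := by
  have hfixt : ∀ n : ↥(centralizer ({(H.t : X)} : Set X)), MulAut.conjNormal (n : X) H.t = H.t :=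
    fun n => Subtype.ext (by
      rw [MulAut.conjNormal_apply, mem_centralizer_singleton_iff.1 n.2, mul_inv_cancel_right])
  have hex : ∀ n : ↥(centralizer ({(H.t : X)} : Set X)), ∀ k, ∃ x,
      H.emb x = MulAut.conjNormal (n : X) (H.embK k) := fun n k => by
    refine JT.Loc.emb_surj H ?_
    have := (JT.Loc.emb_commute H (1, k)).map (MulAut.conjNormal (n : X) : MulAut ↥T)
    rwa [hfixt n] at this
  choose g hg using hex
  let β : ↥(centralizer ({(H.t : X)} : Set X)) → PG →* Multiplicative (ZMod 2) × PG := fun n =>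
    MonoidHom.mk' (g n) fun a b => JT.Loc.emb_injective H (by
      rw [hg, map_mul H.emb, hg, hg, map_mul, map_mul])
  have hfst : ∀ n k, (g n k).1 = 1 := by
    intro n k
    obtain ⟨a, b, hab⟩ := hnc
    set τ := (MonoidHom.fst (Multiplicative (ZMod 2)) PG).comp (β n)
    rcases (inferInstance : τ.ker.Normal).eq_bot_or_eq_top with e | e
    · exact absurd ((MonoidHom.ker_eq_bot_iff τ).1 e (by rw [map_mul, map_mul, mul_comm])) hab
    · exact MonoidHom.mem_ker.1 (e ▸ mem_top k : k ∈ τ.ker)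
  have key : ∀ (n : ↥(centralizer ({(H.t : X)} : Set X))) (k : PG), MulAut.conjNormal (n : X) (H.embK k) = H.embK (g n k).2 := fun n k => by
    rw [← hg n k]
    exact congrArg H.emb (Prod.ext (hfst n k) rfl)
  have hinj : Function.Injective H.embK := fun a b h =>
    congrArg Prod.snd (JT.Loc.emb_injective H h)
  have hmul : ∀ m n k, (g (m * n) k).2 = (g m (g n k).2).2 := fun m n k => hinj (by
    rw [← key, ← key, ← key, Subgroup.coe_mul, map_mul, MulAut.mul_apply])
  have hone : ∀ k, (g 1 k).2 = k := fun k => hinj (by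
    rw [← key, Subgroup.coe_one, map_one, MulAut.one_apply])
  refine ⟨MonoidHom.mk' (fun n =>
    { toFun := fun k => (g n k).2
      invFun := fun k => (g n⁻¹ k).2
      left_inv := fun k => by
        show (g n⁻¹ (g n k).2).2 = k
        rw [← hmul, inv_mul_cancel, hone]
      right_inv := fun k => by
        show (g n (g n⁻¹ k).2).2 = k
        rw [← hmul, mul_inv_cancel, hone]
      map_mul' := fun a b => congrArg Prod.snd (map_mul (β n) a b) })
    fun m n => MulEquiv.ext fun k => hmul m n k, key⟩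

/-- The part of an odd transitive subgroup outside the socle is given by field automorphisms. -/
theorem card_map_dvd_field [IsSimpleGroup ↥T] (h : SEAbelian.AbTwo X)
    (hC : centralizer (T : Set X) = ⊥) {Q : Subgroup X} (hQ : Odd (Nat.card ↥Q))
    (htr : ∀ a b : X, orderOf a = 2 → orderOf b = 2 → ∃ q ∈ Q, q * a * q⁻¹ = b)
    (hodd : Odd (Fintype.card F)) (h5 : 5 < Fintype.card F) (H : JT.Setup ↥T PG)
    {p f : ℕ} [Fact p.Prime] (hf : 1 ≤ f) (hF : Fintype.card F = p ^ f) :
    Nat.card ↥(Q.map (QuotientGroup.mk' T)) ∣ f := by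
  classical
  haveI : IsSimpleGroup PG := Classical.Linear.isSimpleGroup_PSL_fin le_rfl fun _ => by omega
  haveI := Fintype.ofFinite PG
  haveI : NeZero f := ⟨by omega⟩
  have hT := h.subgroup T
  have hab := sylow_comm_of_abTwo hT
  obtain ⟨r, hK, -⟩ := JT.Loc.exists_kfacts hodd (by omega) (H.sylow_comm hab)
  obtain ⟨-, hL, -⟩ := JT.Setup.local_facts hab hodd (by omega) H
  obtain ⟨φ, -, -, hφk⟩ := S2602.result (F := F) (p := p) (f := f) hf hF (hF ▸ (show 4 ≤ Fintype.card F by omega))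
  rw [Nat.gcd_eq_left (by rw [← hF]; obtain ⟨i, hi⟩ := hodd; exact ⟨i, by omega⟩)] at hφk
  set π := QuotientGroup.mk' T with hπ
  obtain ⟨ρ, hρ⟩ := exists_component_action hK.not_comm H
  let C₀ := centralizer ({(H.t : X)} : Set X)
  set N₁ : Subgroup ↥C₀ := ((Q.map π).comap π).subgroupOf C₀ with hN₁
  let π₁ : ↥N₁ →* X ⧸ T := (π.comp C₀.subtype).comp N₁.subtype
  let χ : ↥N₁ →* Multiplicative (ZMod f) :=
    ((φ.comp (QuotientGroup.mk' (Cfsg.Inn PG))).comp ρ).comp N₁.subtype
  -- everything in `QT` is congruent to a centralizing element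
  have hrange : π₁.range = Q.map π := by
    refine le_antisymm ?_ ?_
    · rintro _ ⟨n, rfl⟩
      exact mem_comap.1 (mem_subgroupOf.1 n.2)
    · rintro _ ⟨q, hq, rfl⟩
      have ho : orderOf (MulAut.conjNormal q H.t : ↥T) = 2 := by
        rw [MulEquiv.orderOf_eq]; exact H.ht
      obtain ⟨τ, hτ⟩ := isConj_iff.1 (hL.fused _ ho)
      have h1 := congrArg Subtype.val hτ
      rw [MulAut.conjNormal_apply, Subgroup.coe_mul, Subgroup.coe_mul, Subgroup.coe_inv] at h1
      have hmem : (τ : X)⁻¹ * q ∈ C₀ := mem_centralizer_singleton_iff.2 (by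
        calc (τ : X)⁻¹ * q * H.t = (τ : X)⁻¹ * (q * H.t * q⁻¹) * q := by group
          _ = (τ : X)⁻¹ * (τ * H.t * (τ : X)⁻¹) * q := by rw [h1]
          _ = H.t * ((τ : X)⁻¹ * q) := by group)
      have hπq : π ((τ : X)⁻¹ * q) = π q := by
        rw [map_mul, map_inv, show π τ = 1 from (QuotientGroup.eq_one_iff _).2 τ.2, inv_one, one_mul]
      exact ⟨⟨⟨_, hmem⟩, mem_subgroupOf.2 (mem_comap.2 (hπq ▸ mem_map_of_mem π hq))⟩, hπq⟩
  -- odd order in the kernel means inside `T`
  have hker : χ.ker ≤ π₁.ker := by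
    intro n hn
    rw [MonoidHom.mem_ker] at hn ⊢
    have ho : Odd (orderOf (π₁ n)) :=
      (hQ.of_dvd_nat (Subgroup.card_map_dvd _ _)).of_dvd_nat
        (Subgroup.orderOf_dvd_natCard _ (show π₁ n ∈ Q.map π by rw [← hrange]; exact ⟨n, rfl⟩))
    obtain ⟨j, m, hm, hj⟩ := Nat.exists_eq_two_pow_mul_odd (orderOf_pos n).ne'
    set y := n ^ 2 ^ j with hy
    have hym : y ^ m = 1 := by rw [hy, ← pow_mul, ← hj, pow_orderOf_eq_one]
    have hyo : Odd (orderOf y) := hm.of_dvd_nat (orderOf_dvd_of_pow_eq_one hym)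
    have hχy : χ y = 1 := by rw [hy, map_pow, hn, one_pow]
    -- `y` acts on the component by an inner automorphism
    have hinner : QuotientGroup.mk' (Cfsg.Inn PG) (ρ (y : ↥C₀)) = 1 := by
      set o := QuotientGroup.mk' (Cfsg.Inn PG) (ρ (y : ↥C₀)) with ho'
      have h1 : orderOf o ∣ 2 := (Subgroup.orderOf_dvd_natCard _ (show o ∈ φ.ker from MonoidHom.mem_ker.2 hχy)).trans hφk.dvd
      have h2 : orderOf o ∣ orderOf y :=
        orderOf_map_dvd (((QuotientGroup.mk' (Cfsg.Inn PG)).comp ρ).comp N₁.subtype) y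
      exact orderOf_eq_one_iff.1 (Nat.eq_one_of_dvd_coprimes (Nat.coprime_two_left.2 hyo) h1 h2)
    obtain ⟨v, hv⟩ := MonoidHom.mem_range.1 ((QuotientGroup.eq_one_iff _).1 hinner)
    set c : ↥T := H.embK v with hc
    set x : X := (c : X)⁻¹ * ((y : ↥C₀) : X) with hx
    have hxcent : ∀ d ∈ H.C, Commute x (d : X) := by
      intro d hd
      obtain ⟨⟨b, k⟩, rfl⟩ := JT.Loc.emb_surj H (mem_centralizer_singleton_iff.1 hd)
      have hyt : Commute x (H.t : X) := by
        have h1 : Commute (c : X) (H.t : X) :=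
          (JT.Loc.emb_commute H (1, v)).map T.subtype
        exact h1.inv_left.mul_left (mem_centralizer_singleton_iff.1 (y : ↥C₀).2)
      have hyk : Commute x (H.embK k : X) := by
        have h1 := congrArg Subtype.val (hρ (y : ↥C₀) k)
        rw [MulAut.conjNormal_apply, ← hv, MulAut.conj_apply, map_mul, map_mul, map_inv, ← hc,
          Subgroup.coe_mul, Subgroup.coe_mul, Subgroup.coe_inv] at h1
        show x * _ = _ * x
        calc x * (H.embK k : X)
            = (c : X)⁻¹ * (((y : ↥C₀) : X) * H.embK k * ((y : ↥C₀) : X)⁻¹) * (y : ↥C₀) := by rw [hx]; group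
          _ = (c : X)⁻¹ * ((c : X) * H.embK k * (c : X)⁻¹) * (y : ↥C₀) := by rw [h1]
          _ = (H.embK k : X) * x := by rw [hx]; group
      rw [show ((b, k) : Multiplicative (ZMod 2) × PG) = (b, 1) * (1, k) by simp, map_mul,
        Subgroup.coe_mul]
      refine Commute.mul_right ?_ hyk
      rcases JT.Loc.z2_cases b with rfl | rfl
      · rw [show ((1, 1) : Multiplicative (ZMod 2) × PG) = 1 from rfl, map_one, Subgroup.coe_one]
        exact Commute.one_right _
      · rw [hL.emb_t]; exact hyt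
    obtain ⟨i, l, hl, hil⟩ := Nat.exists_eq_two_pow_mul_odd (orderOf_pos x).ne'
    have hx1 : x ^ 2 ^ i = 1 := by
      refine eq_one_of_centralizes h hC hodd h5 H ?_ fun d hd => (hxcent d hd).pow_left _
      refine hl.of_dvd_nat (orderOf_dvd_of_pow_eq_one ?_)
      rw [← pow_mul, ← hil, pow_orderOf_eq_one]
    have hπx : π x = π₁ n ^ 2 ^ j := by
      rw [hx, map_mul, map_inv, show π c = 1 from (QuotientGroup.eq_one_iff _).2 c.2, inv_one, one_mul,
        ← map_pow, ← hy]
      rfl
    have hp : π₁ n ^ (2 ^ j * 2 ^ i) = 1 := by rw [pow_mul, ← hπx, ← map_pow, hx1, map_one]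
    refine orderOf_eq_one_iff.1 (Nat.eq_one_of_dvd_coprimes ?_ dvd_rfl (orderOf_dvd_of_pow_eq_one hp))
    rw [← pow_add]
    exact Nat.Coprime.pow_right _ (Nat.coprime_two_right.2 ho)
  rw [← hrange, ← Subgroup.index_ker]
  refine (index_dvd_of_le hker).trans ?_
  rw [Subgroup.index_ker]
  refine χ.range.card_subgroup_dvd_card.trans ?_
  rw [Nat.card_congr Multiplicative.toAdd, Nat.card_zmod]

/-- The odd subgroup of the socle left by an odd transitive subgroup. -/
theorem exists_odd_of_trans [IsSimpleGroup ↥T] (h : SEAbelian.AbTwo X)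
    (hC : centralizer (T : Set X) = ⊥) (hall : ∀ x : X, orderOf x = 2 → x ∈ T)
    {Q : Subgroup X} (hQ : Odd (Nat.card ↥Q))
    (htr : ∀ a b : X, orderOf a = 2 → orderOf b = 2 → ∃ q ∈ Q, q * a * q⁻¹ = b)
    (hodd : Odd (Fintype.card F)) (h5 : 5 < Fintype.card F) (H : JT.Setup ↥T PG)
    {p f : ℕ} [Fact p.Prime] (hf : 1 ≤ f) (hF : Fintype.card F = p ^ f) :
    ∃ D : Subgroup ↥T, Odd (Nat.card ↥D) ∧ H.C.index ∣ f * Nat.card ↥D := by
  classical
  haveI := Fintype.ofFinite PG
  have hab := sylow_comm_of_abTwo (h.subgroup T)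
  obtain ⟨-, hL, -⟩ := JT.Setup.local_facts hab hodd (by omega) H
  set π := QuotientGroup.mk' T with hπ
  have hcard : Nat.card ↥Q = Nat.card ↥(Q.map π) * Nat.card ↥(Q.subgroupOf T) := by
    have h1 := (π.comp Q.subtype).ker.card_mul_index
    rw [Subgroup.index_ker, MonoidHom.range_comp, Subgroup.range_subtype, mul_comm] at h1
    rw [← h1]
    congr 1
    have h2 : (π.comp Q.subtype).ker = T.subgroupOf Q := by
      rw [← MonoidHom.comap_ker, QuotientGroup.ker_mk']; rfl
    rw [h2, ← inf_subgroupOf_right, Nat.card_congr (subgroupOfEquivOfLe inf_le_right).toEquiv,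
      ← inf_subgroupOf_right Q T, Nat.card_congr (subgroupOfEquivOfLe inf_le_right).toEquiv, inf_comm]
  have htX : orderOf (H.t : X) = 2 := by rw [Subgroup.orderOf_coe, H.ht]
  letI : MulAction Q X := MulAction.compHom X ((MulAut.conj : X →* MulAut X).comp Q.subtype)
  have horb : H.C.index = Nat.card (MulAction.orbit Q (H.t : X)) := by
    have hmem : ∀ c : ↥T ⧸ H.C, ((c.out * H.t * c.out⁻¹ : ↥T) : X) ∈ MulAction.orbit Q (H.t : X) := by
      intro c
      obtain ⟨q, hq, hq'⟩ := htr _ ((c.out * H.t * c.out⁻¹ : ↥T) : X) htX (by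
        rw [Subgroup.orderOf_coe, ← MulAut.conj_apply, MulEquiv.orderOf_eq, H.ht])
      exact ⟨⟨q, hq⟩, hq'⟩
    refine Nat.card_congr (Equiv.ofBijective (fun c => ⟨_, hmem c⟩) ⟨fun a b hab' => ?_, ?_⟩)
    · have h0 := congrArg (fun z : MulAction.orbit Q (H.t : X) => (z : X)) hab'
      have h1 : a.out * H.t * a.out⁻¹ = b.out * H.t * b.out⁻¹ := Subtype.ext h0
      rw [← a.out_eq, ← b.out_eq]
      refine QuotientGroup.eq.2 (mem_centralizer_singleton_iff.2 ?_)
      calc a.out⁻¹ * b.out * H.t = a.out⁻¹ * (b.out * H.t * b.out⁻¹) * b.out := by group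
        _ = a.out⁻¹ * (a.out * H.t * a.out⁻¹) * b.out := by rw [h1]
        _ = H.t * (a.out⁻¹ * b.out) := by group
    · rintro ⟨x, q, rfl⟩
      have ho : orderOf ((q : X) * H.t * (q : X)⁻¹) = 2 := by
        rw [← MulAut.conj_apply, MulEquiv.orderOf_eq, htX]
      obtain ⟨τ, hτ⟩ := isConj_iff.1 (hL.fused ⟨_, hall _ ho⟩ (by rw [Subgroup.orderOf_mk, ho]))
      refine ⟨QuotientGroup.mk τ, Subtype.ext ?_⟩
      obtain ⟨z, hz⟩ := QuotientGroup.mk_out_eq_mul H.C τ
      show (((QuotientGroup.mk τ : ↥T ⧸ H.C).out * H.t * _ : ↥T) : X) = (q : X) * H.t * (q : X)⁻¹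
      have h2 : (QuotientGroup.mk τ : ↥T ⧸ H.C).out * H.t * (QuotientGroup.mk τ : ↥T ⧸ H.C).out⁻¹
          = τ * H.t * τ⁻¹ := by
        rw [hz]
        calc τ * z * H.t * (τ * (z : ↥T))⁻¹ = τ * ((z : ↥T) * H.t) * (z : ↥T)⁻¹ * τ⁻¹ := by group
          _ = τ * (H.t * z) * (z : ↥T)⁻¹ * τ⁻¹ := by rw [mem_centralizer_singleton_iff.1 z.2]
          _ = τ * H.t * τ⁻¹ := by group
      rw [h2, hτ]
  refine ⟨Q.subgroupOf T, hQ.of_dvd_nat ⟨_, by rw [hcard, mul_comm]⟩, ?_⟩
  refine Dvd.dvd.trans ⟨Nat.card (MulAction.stabilizer Q (H.t : X)), ?_⟩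
    (hcard.symm ▸ mul_dvd_mul_right (card_map_dvd_field h hC hQ htr hodd h5 H hf hF) _)
  rw [horb, ← Nat.card_prod]
  exact (Nat.card_congr (MulAction.orbitProdStabilizerEquivGroup Q _)).symm

/-- The index of the involution centralizer in a group of Ree order. -/
theorem index_C_ree {G : Type u} [Group G] [Finite G] (H : JT.Setup G PG) {q : ℕ}
    (hq : Fintype.card F = q) (hodd : Odd q) (h3 : 3 ≤ q)
    (hG : Nat.card G = q ^ 3 * (q ^ 3 + 1) * (q - 1)) : H.C.index = q ^ 2 * (q ^ 2 - q + 1) := by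
  have h1 := Cfsg.Agent.Forms.DicksonCor.gcd_mul_natCard (F := F)
  rw [hq, Nat.gcd_eq_left (by obtain ⟨i, hi⟩ := hodd; exact ⟨i, by omega⟩)] at h1
  have h2 := H.C.card_mul_index
  rw [Nat.card_congr H.e.toEquiv, Nat.card_prod,
    show Nat.card (Multiplicative (ZMod 2)) = Nat.card (ZMod 2) from rfl, Nat.card_zmod, h1, hG] at h2
  refine Nat.eq_of_mul_eq_mul_left (show 0 < q * ((q - 1) * (q + 1)) from
    Nat.mul_pos (by omega) (Nat.mul_pos (by omega) (by omega))) (h2.trans ?_)
  have hle : q ≤ q ^ 2 := by nlinarith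
  zify [hle]
  ring

end Cfsg.Agent.Walter.NoTrans
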