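import Cfsg.Agent.Lib.EqConjOdd.JankoSE
import Cfsg.Agent.Lib.EqAbConj.Janko
import Cfsg.Agent.Lib.J1Aut.Aut
import Cfsg.Prelude.Def_Sporadic

/-!
# No odd subgroup is transitive over a socle of the type of the first Janko group

The socle has no outer automorphisms, so it is the whole group; and the Janko group has no odd
subgroup transitive on its involutions.
-/

set_option autoImplicit false
set_option linter.style.haveILetI false

namespace Cfsg.Agent.Walter.NoTrans

open Subgroup

universe u

variable {X : Type u} [Group X] [Finite X]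

/-- No odd subgroup is transitive over a socle of Janko type. -/
theorem not_trans_janko {T : Subgroup X} [T.Normal] (hT : Cfsg.IsJ1 ↥T)
    (hC : centralizer (T : Set X) = ⊥) {Q : Subgroup X} (hQ : Odd (Nat.card ↥Q))
    (htr : ∀ a b : X, orderOf a = 2 → orderOf b = 2 → ∃ q ∈ Q, q * a * q⁻¹ = b) : False := by
  obtain ⟨e⟩ := EqAbConj.isoJ1_of_isJ1 hT
  have htop : T = ⊤ := by
    refine eq_top_iff.2 fun x _ => ?_
    obtain ⟨g, hg⟩ := Lib.J1Aut.Aut.aut_inner (MulAut.congr e (MulAut.conjNormal x))
    have hmem : (↑(e.symm g) : X)⁻¹ * x ∈ centralizer (T : Set X) := by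
      refine mem_centralizer_iff.2 fun t ht => ?_
      have h1 := DFunLike.congr_fun hg (e ⟨t, ht⟩)
      simp only [MulAut.conj_apply, MulAut.congr, MulEquiv.coe_mk, Equiv.coe_fn_mk,
        MulEquiv.trans_apply, MulEquiv.symm_apply_apply] at h1
      have h2 := congrArg (fun y => ((e.symm y : ↥T) : X)) h1
      simp only [map_mul, map_inv, MulEquiv.symm_apply_apply, Subgroup.coe_mul, Subgroup.coe_inv,
        MulAut.conjNormal_apply] at h2
      generalize (↑(e.symm g) : X) = c at h2
      calc t * (c⁻¹ * x) = c⁻¹ * (c * t * c⁻¹) * x := by group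
        _ = c⁻¹ * (x * t * x⁻¹) * x := by rw [h2]
        _ = c⁻¹ * x * t := by group
    rw [hC, mem_bot, inv_mul_eq_one] at hmem
    exact hmem ▸ SetLike.coe_mem _
  subst htop
  haveI : IsSimpleGroup X := (MulEquiv.isSimpleGroup_congr (topEquiv (G := X))).1 hT.1
  exact EqConjOdd.janko_no_transitive (card_top (G := X) ▸ hT.2) Q hQ htr

end Cfsg.Agent.Walter.NoTrans
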