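import Cfsg.Agent.Lib.Walter.SEEndDefs
import Cfsg.Agent.Lib.Walter.OddTransitiveLinear
import Cfsg.Agent.Lib.Walter.NoTrans.Janko
import Cfsg.Agent.Lib.Walter.NoTrans.Frattini

/-!
# The socles at the strongly embedded end

No odd subgroup is transitive on the involutions over a socle `PSL(2, 2^n)`, `PSL(2, q)` with
`q = 3, 5 mod 8`, `J₁`, or a group with an involution centralizer `C₂ × PSL(2, q)`, given that a
group of Ree order has no odd subgroup of nearly the order of an involution class.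
-/

set_option autoImplicit false
set_option linter.style.haveILetI false

namespace Cfsg.Agent.Walter.NoTrans

open Subgroup

universe u

/-- The possible socles. -/
def KnownSocle (T : Type u) [Group T] : Prop :=
  (∃ (F : Type) (_ : Field F) (_ : Fintype F),
      ((∃ n : ℕ, 2 ≤ n ∧ Fintype.card F = 2 ^ n) ∨ Fintype.card F % 8 = 3 ∨ Fintype.card F % 8 = 5) ∧
        Nonempty (T ≃* Matrix.ProjectiveSpecialLinearGroup (Fin 2) F)) ∨
    Cfsg.IsJ1 T ∨
    ∃ (F : Type) (_ : Field F) (_ : Fintype F) (t : T), 3 ≤ Fintype.card F ∧ orderOf t = 2 ∧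
      Nonempty (centralizer ({t} : Set T) ≃*
        Multiplicative (ZMod 2) × Matrix.ProjectiveSpecialLinearGroup (Fin 2) F)

/-- No odd subgroup has order a multiple of the class size divided by `f`. -/
def ReeOddBound : Prop :=
  ∀ (G : Type u) [Group G] [Finite G] [IsSimpleGroup G], SEAbelian.AbTwo G →
    ∀ (F : Type) [Field F] [Fintype F]
      (H : JT.Setup G (Matrix.ProjectiveSpecialLinearGroup (Fin 2) F)) (m : ℕ), 1 ≤ m →
      Fintype.card F = 3 ^ (2 * m + 1) → ∀ D : Subgroup G, Odd (Nat.card ↥D) →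
      H.C.index ∣ (2 * m + 1) * Nat.card ↥D → False

variable {X : Type u} [Group X] [Finite X]

/-- The socle exclusion at the strongly embedded end. -/
theorem noTransSocle_of_bound (hRee : ReeOddBound.{u})
    (hcases : ∀ T : Subgroup X, T.Normal → IsSimpleGroup ↥T → ¬ IsMulCommutative ↥T →
      centralizer (T : Set X) = ⊥ → (∀ t : X, orderOf t = 2 → t ∈ T) → KnownSocle ↥T) :
    NoTransSocle X := by
  intro h Q hQ htr hA T hTn hTs hTc hC hall
  haveI := hTn
  haveI := hTs
  haveI : Fact (Nat.Prime 3) := ⟨Nat.prime_three⟩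
  obtain ⟨A, hA, h8⟩ := hA
  rcases hcases T hTn hTs hTc hC hall with ⟨F, iF, iF', hF, ⟨e⟩⟩ | hJ | ⟨F, iF, iF', t, hF, ht, ⟨e⟩⟩
  · rcases hF with ⟨n, hn, hF⟩ | hF
    · exact OddTransitive.not_trans_even hC hQ htr hn hF e
    · refine OddTransitive.not_eight_odd (fun a ha => ?_) hA h8 hF e
      by_cases h1 : a = 1
      · exact h1 ▸ one_mem _
      · exact hall a (orderOf_eq_prime (hA.2 a ha) h1)
  · exact not_trans_janko hJ hC hQ htr
  · have hab := sylow_comm_of_abTwo (h.subgroup T)
    rcases S0343.result hab hF t ht ⟨e⟩ with ⟨m, hm, hq, hT⟩ | ⟨-, hJ⟩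
    · have h27 : 3 ^ 3 ≤ Fintype.card F := hq ▸ Nat.pow_le_pow_right (by norm_num) (by omega)
      have hodd : Odd (Fintype.card F) := hq ▸ Odd.pow (by decide)
      obtain ⟨D, hD, hdvd⟩ := exists_odd_of_trans h hC hall hQ htr hodd
        (by omega) ⟨t, ht, e⟩ (p := 3) (f := 2 * m + 1) (by omega) hq
      exact hRee ↥T (h.subgroup T) F ⟨t, ht, e⟩ m hm hq D hD hdvd
    · exact not_trans_janko hJ hC hQ htr

end Cfsg.Agent.Walter.NoTrans
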