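import Cfsg.Agent.Lib.Walter.OddTransitive
import Cfsg.Agent.Lib.JT.Local
import Cfsg.Agent.Lib.SECore.NoBadBasic
import Cfsg.Agent.Lib.Cores.Basic
import Cfsg.Agent.Lib.Classical.Linear
import Cfsg.Agent.DegPSL.PSLData
import Cfsg.Agent.S0343

/-!
# An involution centralizer and a Sylow normalizer generate a group of Ree type

In a simple group with abelian Sylow 2-subgroups and an involution centralizer `C₂ × PSL(2, q)`,
`q > 5` odd, the only subgroup containing the centralizer and the normalizer of a Sylow 2-subgroup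
is the whole group: the subgroup would have the same order.
-/

set_option autoImplicit false
set_option linter.style.haveILetI false
set_option linter.unusedSectionVars false

namespace Cfsg.Agent.Walter.NoTrans

open Subgroup

universe u v

variable {G : Type u} [Group G] [Finite G] {F : Type v} [Field F] [Fintype F]

local notation "PG" => Matrix.ProjectiveSpecialLinearGroup (Fin 2) F

theorem sylow_comm_of_abTwo (h : SEAbelian.AbTwo G) (P : Sylow 2 G) (a b : P) : a * b = b * a :=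
  Subtype.ext (h _ P.2 a a.2 b b.2).eq

/-- A normal subgroup meeting the component nontrivially contains it. -/
theorem embK_mem {K : Type*} [Group K] [IsSimpleGroup K] (H : JT.Setup G K) (N : Subgroup G)
    (hN : ∀ k, ∀ x ∈ N, H.embK k * x * (H.embK k)⁻¹ ∈ N) {k₀ : K} (h0 : k₀ ≠ 1)
    (hk₀ : H.embK k₀ ∈ N) (k : K) : H.embK k ∈ N := by
  haveI hn : (N.comap H.embK).Normal := ⟨fun x hx g => by
    rw [mem_comap, map_mul, map_mul, map_inv]
    exact hN g _ hx⟩
  rcases hn.eq_bot_or_eq_top with e | e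
  · exact absurd (mem_bot.1 (e ▸ (mem_comap.2 hk₀ : k₀ ∈ N.comap H.embK))) h0
  · exact mem_comap.1 (e ▸ mem_top k)

/-- The subgroup generated by the centralizer and the normalizer is the whole group. -/
theorem eq_top_of_contains [IsSimpleGroup G] (h : SEAbelian.AbTwo G) (hodd : Odd (Fintype.card F))
    (h5 : 5 < Fintype.card F) (H : JT.Setup G PG) {r : ℕ} (hK : JT.Loc.KFacts PG r)
    {e f : PG} (he : orderOf e = 2) (hf : orderOf f = 2) (hc : Commute e f) (hne : e ≠ f)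
    (S : Sylow 2 G)
    (hS : ∀ b, ∀ k ∈ ({1, e, f, e * f} : Set PG), H.emb (b, k) ∈ (S : Subgroup G))
    {U : Subgroup G} (hCU : H.C ≤ U) (hNU : normalizer ((S : Subgroup G) : Set G) ≤ U) : U = ⊤ := by
  classical
  haveI : Fact (Nat.Prime 2) := ⟨Nat.prime_two⟩
  haveI : IsSimpleGroup PG := Classical.Linear.isSimpleGroup_PSL_fin le_rfl fun _ => by omega
  haveI := Fintype.ofFinite PG
  have hab := sylow_comm_of_abTwo h
  obtain ⟨-, hL, -⟩ := JT.Setup.local_facts hab hodd (by omega) H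
  have hKU : ∀ k, H.embK k ∈ U := fun k => hCU (H.e.symm (1, k)).2
  have htS : H.t ∈ (S : Subgroup G) := hL.emb_t ▸ hS _ 1 (Or.inl rfl)
  have hSC : (S : Subgroup G) ≤ H.C := fun x hx =>
    mem_centralizer_singleton_iff.2 (h _ S.2 x hx H.t htS).eq
  have hSU : (S : Subgroup G) ≤ U := hSC.trans hCU
  haveI : IsMulCommutative ↥(S : Subgroup G) :=
    ⟨⟨fun x y => Subtype.ext (h _ S.2 x x.2 y y.2).eq⟩⟩
  have hfus : ∀ a ∈ (S : Subgroup G), orderOf a = 2 →
      ∃ n ∈ normalizer ((S : Subgroup G) : Set G), n * H.t * n⁻¹ = a := by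
    intro a ha ho
    obtain ⟨g, hg⟩ := isConj_iff.1 (hL.fused a ho)
    obtain ⟨n, hn, hn'⟩ := S.conj_eq_normalizer_conj_of_mem H.t g⁻¹ htS (by rwa [inv_inv, hg])
    exact ⟨n⁻¹, inv_mem hn, by rw [inv_inv, ← hn', inv_inv, hg]⟩
  -- one class of involutions in `U`
  have hconjU : ∀ x ∈ U, orderOf x = 2 → ∃ c ∈ U, c * H.t * c⁻¹ = x := by
    intro x hx hx2
    have hp : IsPGroup 2 ↥(zpowers (⟨x, hx⟩ : U)) := IsPGroup.of_card (n := 1) (by
      rw [Nat.card_zpowers, pow_one, Subgroup.orderOf_mk, hx2])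
    obtain ⟨P, hP⟩ := hp.exists_le_sylow
    obtain ⟨m, hm⟩ := MulAction.exists_smul_eq U P (S.subtype hSU)
    have h1 : m * ⟨x, hx⟩ * m⁻¹ ∈ ((m • P : Sylow 2 U) : Subgroup U) := by
      rw [Sylow.coe_subgroup_smul]
      exact ⟨_, hP (mem_zpowers _), rfl⟩
    rw [hm, Sylow.coe_subtype, mem_subgroupOf, Subgroup.coe_mul, Subgroup.coe_mul,
      Subgroup.coe_inv] at h1
    obtain ⟨n, hn, hn'⟩ := hfus _ h1 (by
      rw [← MulAut.conj_apply, MulEquiv.orderOf_eq]; exact hx2)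
    refine ⟨(m : G)⁻¹ * n, mul_mem (inv_mem m.2) (hNU hn), ?_⟩
    calc (m : G)⁻¹ * n * H.t * ((m : G)⁻¹ * n)⁻¹ = (m : G)⁻¹ * (n * H.t * n⁻¹) * m := by group
      _ = x := by rw [hn']; group
  -- no odd normal subgroup
  have h0 : Cfsg.oddCore ↥U = ⊥ := by
    set W := (Cfsg.oddCore ↥U).map U.subtype with hW
    have hWodd : Odd (Nat.card ↥W) :=
      (Agent.Cores.oddCore_odd (G := ↥U)).of_dvd_nat (Subgroup.card_map_dvd _ _)
    have hWn : ∀ g ∈ U, ∀ x ∈ W, g * x * g⁻¹ ∈ W := by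
      rintro g hg _ ⟨x, hx, rfl⟩
      exact ⟨⟨g, hg⟩ * x * ⟨g, hg⟩⁻¹, (inferInstance : (Cfsg.oddCore ↥U).Normal).conj_mem x hx _, rfl⟩
    have hnorm : U ≤ normalizer (W : Set G) := fun g hg => mem_normalizer_iff.2 fun x =>
      ⟨hWn g hg x, fun hx => by simpa [mul_assoc] using hWn g⁻¹ (inv_mem hg) _ hx⟩
    have hWt : ∀ y ∈ W, Commute y H.t → y = 1 := by
      intro y hy hyt
      obtain ⟨⟨b, k⟩, hbk⟩ := JT.Loc.emb_surj H hyt
      have h2 : y * y = H.embK (k * k) := by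
        rw [← hbk, ← map_mul, Prod.mk_mul_mk, JT.Loc.z2_sq b]; rfl
      have hyo := hWodd.of_dvd_nat (Subgroup.orderOf_dvd_natCard W hy)
      refine JT.Loc.eq_one_of_odd_sq hyo ?_
      rw [h2]
      by_contra hne1
      have hk : k * k ≠ 1 := fun e1 => hne1 (by rw [e1, map_one])
      have hall := embK_mem H W (fun j x hx => hWn _ (hKU j) x hx) hk (h2 ▸ mul_mem hy hy) e
      have h3 := Subgroup.orderOf_dvd_natCard W hall
      rw [show H.embK e = H.emb (1, e) from rfl, JT.Loc.orderOf_emb H, Prod.orderOf_mk, orderOf_one,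
        Nat.lcm_one_left, he] at h3
      exact Nat.not_even_iff_odd.2 hWodd (even_iff_two_dvd.2 h3)
    have hWa : ∀ a ∈ (S : Subgroup G), orderOf a = 2 → ∀ y ∈ W, Commute y a → y = 1 := by
      intro a ha ho y hy hya
      obtain ⟨n, hn, rfl⟩ := hfus a ha ho
      have h1 : n⁻¹ * y * n ∈ W := by simpa using hWn n⁻¹ (inv_mem (hNU hn)) y hy
      have h2 : n⁻¹ * y * n = 1 := hWt _ h1 (show _ = _ by
        calc n⁻¹ * y * n * H.t = n⁻¹ * (y * (n * H.t * n⁻¹)) * n := by group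
          _ = n⁻¹ * (n * H.t * n⁻¹ * y) * n := by rw [hya.eq]
          _ = H.t * (n⁻¹ * y * n) := by group)
      calc y = n * (n⁻¹ * y * n) * n⁻¹ := by group
        _ = 1 := by rw [h2]; group
    have hmem : ∀ k ∈ ({1, e, f, e * f} : Set PG), H.embK k ∈ (S : Subgroup G) := hS 1
    have hinv : ∀ k : PG, orderOf k = 2 → orderOf (H.embK k) = 2 := fun k hk => by
      rw [show H.embK k = H.emb (1, k) from rfl, JT.Loc.orderOf_emb H, Prod.orderOf_mk, orderOf_one,
        Nat.lcm_one_left, hk]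
    have hef : orderOf (e * f) = 2 := orderOf_eq_prime
      (by rw [pow_two, hc.symm.mul_mul_mul_comm, JT.Loc.invol_mul_self he, JT.Loc.invol_mul_self hf,
        one_mul])
      (fun e1 => hne (by
        rw [eq_inv_of_mul_eq_one_left e1, inv_eq_of_mul_eq_one_right (JT.Loc.invol_mul_self hf)]))
    have hWbot : W ≤ ⊥ := by
      refine SECore.le_of_four hWodd (a := H.embK e) (b := H.embK f)
        (JT.Loc.invol_mul_self (hinv e he)) (JT.Loc.invol_mul_self (hinv f hf)) (hc.map _)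
        (hnorm (hKU e)) (hnorm (hKU f)) ?_
      rintro y hy (hya | hyb | hyc)
      · exact mem_bot.2 (hWa _ (hmem e (by simp)) (hinv e he) y hy hya)
      · exact mem_bot.2 (hWa _ (hmem f (by simp)) (hinv f hf) y hy hyb)
      · rw [← map_mul] at hyc
        exact mem_bot.2 (hWa _ (hmem _ (by simp)) (hinv _ hef) y hy hyc)
    rwa [le_bot_iff, hW, Subgroup.map_eq_bot_iff_of_injective _ U.subtype_injective] at hWbot
  -- the socle
  have htr : ∀ a b : ↥U, orderOf a = 2 → orderOf b = 2 →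
      ∃ q ∈ (⊤ : Subgroup ↥U), q * a * q⁻¹ = b := by
    intro a b ha hb
    obtain ⟨c, hcU, hc1⟩ := hconjU a a.2 (by rw [Subgroup.orderOf_coe, ha])
    obtain ⟨d, hdU, hd1⟩ := hconjU b b.2 (by rw [Subgroup.orderOf_coe, hb])
    refine ⟨⟨d, hdU⟩ * ⟨c, hcU⟩⁻¹, mem_top _, Subtype.ext ?_⟩
    rw [Subgroup.coe_mul, Subgroup.coe_mul, Subgroup.coe_inv]
    show d * c⁻¹ * (a : G) * (d * c⁻¹)⁻¹ = b
    rw [← hc1, ← hd1]
    group
  rcases OddTransitive.closed_or_simple (h.subgroup U) h0 htr with hn | ⟨T, hTn, hTs, hTc, -, hall⟩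
  · exfalso
    have hnS := hn (S.subtype hSU)
    have hSconj : ∀ g ∈ U, ∀ x ∈ (S : Subgroup G), g * x * g⁻¹ ∈ (S : Subgroup G) := by
      intro g hg x hx
      have h1 := hnS.conj_mem ⟨x, hSU hx⟩ (by rw [Sylow.coe_subtype, mem_subgroupOf]; exact hx) ⟨g, hg⟩
      rw [Sylow.coe_subtype, mem_subgroupOf] at h1
      exact h1
    have hall' := embK_mem H (S : Subgroup G) (fun k x hx => hSconj _ (hKU k) x hx)
      (JT.Loc.invol_ne_one he) (hS 1 e (by simp))
    obtain ⟨a, b, hab'⟩ := hK.not_comm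
    refine hab' (congrArg Prod.snd (JT.Loc.emb_injective H
      (show H.emb ((1, a) * (1, b)) = H.emb ((1, b) * (1, a)) from ?_)))
    rw [map_mul, map_mul]
    exact (h _ S.2 _ (hall' a) _ (hall' b)).eq
  set N := T.map U.subtype with hN
  have hNall : ∀ x ∈ U, orderOf x = 2 → x ∈ N := fun x hx ho =>
    ⟨⟨x, hx⟩, hall _ (by rw [Subgroup.orderOf_mk, ho]), rfl⟩
  have hNn : ∀ g ∈ U, ∀ x ∈ N, g * x * g⁻¹ ∈ N := by
    rintro g hg _ ⟨x, hx, rfl⟩
    exact ⟨⟨g, hg⟩ * x * ⟨g, hg⟩⁻¹, hTn.conj_mem x hx _, rfl⟩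
  have hKN : ∀ k, H.embK k ∈ N := embK_mem H N (fun k x hx => hNn _ (hKU k) x hx)
    (JT.Loc.invol_ne_one he) (hNall _ (hKU e) (by
      rw [show H.embK e = H.emb (1, e) from rfl, JT.Loc.orderOf_emb H, Prod.orderOf_mk, orderOf_one,
        Nat.lcm_one_left, he]))
  have htN : H.t ∈ N := hNall _ (hSU htS) H.ht
  have hCN : H.C ≤ N := by
    intro x hx
    obtain ⟨⟨b, k⟩, rfl⟩ := JT.Loc.emb_surj H (mem_centralizer_singleton_iff.1 hx)
    rw [show ((b, k) : Multiplicative (ZMod 2) × PG) = (b, 1) * (1, k) by simp, map_mul]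
    refine mul_mem ?_ (hKN k)
    rcases JT.Loc.z2_cases b with rfl | rfl
    · rw [show ((1, 1) : Multiplicative (ZMod 2) × PG) = 1 from rfl, map_one]; exact one_mem _
    · rw [hL.emb_t]; exact htN
  haveI : IsSimpleGroup ↥N :=
    (T.equivMapOfInjective _ U.subtype_injective).symm.isSimpleGroup_congr.2 hTs
  have hcent : centralizer ({(⟨H.t, htN⟩ : ↥N)} : Set ↥N) = H.C.subgroupOf N := by
    ext x
    rw [mem_subgroupOf, mem_centralizer_singleton_iff, mem_centralizer_singleton_iff, Subtype.ext_iff]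
    rfl
  let e' := ((MulEquiv.subgroupCongr hcent).trans (subgroupOfEquivOfLe hCN)).trans H.e
  have hcardN := S0343.result (sylow_comm_of_abTwo (h.subgroup N)) (F := F) (by omega) ⟨H.t, htN⟩
    (by rw [← Subgroup.orderOf_coe]; exact H.ht) ⟨e'⟩
  have hcardG := S0343.result hab (F := F) (by omega) H.t H.ht ⟨H.e⟩
  rcases hcardN with ⟨m, -, hm, hcN⟩ | ⟨h45 | h45, -⟩
  · rcases hcardG with ⟨m', -, hm', hcG⟩ | ⟨h45 | h45, -⟩
    · rw [← hm] at hcN
      rw [← hm'] at hcG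
      refine eq_top_iff.2 fun x _ => ?_
      have hN_top : N = ⊤ := Subgroup.eq_top_of_card_eq _ (by rw [hcN, hcG])
      obtain ⟨y, -, hy⟩ := (hN_top ▸ mem_top x : x ∈ N)
      exact hy ▸ y.2
    · omega
    · omega
  · omega
  · omega

end Cfsg.Agent.Walter.NoTrans
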